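import Mathlib
import Cfsg.Agent.AltL.Ax2

/-!
Normal `3`-subgroups of `3`-rank at most two are central when a `7`-element generates.
-/

set_option autoImplicit false

namespace Cfsg.Agent.G2A

open Subgroup

variable {H : Type*} [Group H] [Finite H]

theorem c_nine {a b : H} (h : Commute a b) (ha : a ^ 3 = 1) (hb : b ^ 3 = 1) :
    Nat.card (closure ({a, b} : Set H)) ≤ 9 := by
  let f : zpowers a × zpowers b →* H := MonoidHom.noncommCoprod (zpowers a).subtype
    (zpowers b).subtype (by
      rintro ⟨_, i, rfl⟩ ⟨_, j, rfl⟩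
      exact h.zpow_zpow i j)
  have h1 : closure ({a, b} : Set H) ≤ f.range := by
    rw [closure_le]
    rintro x (rfl | rfl)
    · exact ⟨(⟨_, mem_zpowers _⟩, 1), by simp [f]⟩
    · exact ⟨(1, ⟨_, mem_zpowers _⟩), by simp [f]⟩
  have h2 : Nat.card f.range ≤ Nat.card (zpowers a × zpowers b) :=
    Nat.card_le_card_of_surjective _ f.rangeRestrict_surjective
  rw [Nat.card_prod, Nat.card_zpowers, Nat.card_zpowers] at h2
  have h3 := Nat.le_of_dvd (by norm_num) (orderOf_dvd_of_pow_eq_one ha)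
  have h4 := Nat.le_of_dvd (by norm_num) (orderOf_dvd_of_pow_eq_one hb)
  have h5 := card_le_of_le h1
  nlinarith

theorem c_card (hno : ∀ a b c : H, a^3=1 → b^3=1 → c^3=1 → Commute a b → Commute a c →
      Commute b c → a ≠ 1 → b ∉ zpowers a → c ∈ closure ({a,b} : Set H))
    (O : Subgroup H) (h3 : ∀ x ∈ O, x ^ 3 = 1)
    (hc : ∀ x ∈ O, ∀ y ∈ O, x * y * x⁻¹ * y⁻¹ ∈ center H) : Nat.card O ≤ 27 := by
  by_cases hab : ∀ x ∈ O, ∀ y ∈ O, Commute x y
  · by_cases h1 : ∃ a ∈ O, a ≠ 1
    · obtain ⟨a, ha, ha1⟩ := h1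
      by_cases h2 : ∃ b ∈ O, b ∉ zpowers a
      · obtain ⟨b, hb, hb1⟩ := h2
        have : O ≤ closure ({a, b} : Set H) := fun c hc' => hno a b c (h3 a ha) (h3 b hb)
          (h3 c hc') (hab a ha b hb) (hab a ha c hc') (hab b hb c hc') ha1 hb1
        have h4 := card_le_of_le this
        have h5 := c_nine (hab a ha b hb) (h3 a ha) (h3 b hb)
        omega
      · push Not at h2
        have h4 := card_le_of_le (show O ≤ zpowers a from h2)
        rw [Nat.card_zpowers] at h4
        have h5 := Nat.le_of_dvd (by norm_num) (orderOf_dvd_of_pow_eq_one (h3 a ha))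
        omega
    · push Not at h1
      have : O = ⊥ := (eq_bot_iff_forall O).2 h1
      simp [this]
  · push Not at hab
    obtain ⟨a, ha, b, hb, hab⟩ := hab
    set z := a * b * a⁻¹ * b⁻¹ with hz
    have hzc : z ∈ center H := hc a ha b hb
    have hzO : z ∈ O := O.mul_mem (O.mul_mem (O.mul_mem ha hb) (O.inv_mem ha)) (O.inv_mem hb)
    have hz1 : z ≠ 1 := fun h => hab (commutatorElement_eq_one_iff_commute.1 h)
    have hcz : ∀ w ∈ center H, ∀ x, Commute w x := fun w hw x => (mem_center_iff.1 hw x).symm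
    have hac : a ∉ center H := fun h => hab (hcz a h b)
    have haz : a ∉ zpowers z := fun h => hac ((zpowers_le.2 hzc) h)
    have hZ : ∀ w ∈ O, w ∈ center H → w ∈ zpowers z := by
      intro w hw hwc
      by_contra h
      apply hac
      refine (closure_le _).2 ?_ (hno z w a (h3 z hzO) (h3 w hw) (h3 a ha) (hcz z hzc w)
        (hcz z hzc a) (hcz w hwc a) hz1 h)
      rintro x (rfl | rfl)
      · exact hzc
      · exact hwc
    let φ : O →* H :=
      { toFun := fun c => c * a * (c : H)⁻¹ * a⁻¹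
        map_one' := by simp
        map_mul' := fun c d => by
          have h1 := (hcz _ (hc d d.2 a ha) ((c : H)⁻¹ * a⁻¹)).eq
          have h2 := (hcz _ (hc d d.2 a ha) a).eq
          simp only [coe_mul]
          calc (c : H) * d * a * ((c : H) * (d : H))⁻¹ * a⁻¹
              = c * ((d * a * (d : H)⁻¹ * a⁻¹) * a) * (c : H)⁻¹ * a⁻¹ := by group
            _ = c * a * ((d * a * (d : H)⁻¹ * a⁻¹) * ((c : H)⁻¹ * a⁻¹)) := by rw [h2]; group
            _ = _ := by rw [h1]; group }
    have h1 : φ.range ≤ zpowers z := by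
      rintro _ ⟨c, rfl⟩
      exact hZ _ (O.mul_mem (O.mul_mem (O.mul_mem c.2 ha) (O.inv_mem c.2)) (O.inv_mem ha))
        (hc c c.2 a ha)
    have h2 : φ.ker.map O.subtype ≤ closure ({z, a} : Set H) := by
      rintro _ ⟨c, hcc, rfl⟩
      exact hno z a c (h3 z hzO) (h3 a ha) (h3 c c.2) (hcz z hzc a) (hcz z hzc c)
        (commutatorElement_eq_one_iff_commute.1 hcc).symm hz1 haz
    have h4 := card_le_of_le h1
    rw [Nat.card_zpowers] at h4
    have h5 := Nat.le_of_dvd (by norm_num) (orderOf_dvd_of_pow_eq_one (h3 z hzO))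
    have h6 := card_le_of_le h2
    rw [card_map_of_injective O.subtype_injective] at h6
    have h7 := c_nine (hcz z hzc a) (h3 z hzO) (h3 a ha)
    have h8 := φ.ker.card_mul_index
    rw [index_ker] at h8
    nlinarith

theorem cen3 (hp : Group.IsPerfect H)
    (hno : ∀ a b c : H, a^3=1 → b^3=1 → c^3=1 → Commute a b → Commute a c →
      Commute b c → a ≠ 1 → b ∉ zpowers a → c ∈ closure ({a,b} : Set H))
    (R : Subgroup H) [R.Normal] (hR : IsPGroup 3 R) (g : H) (hg : IsPGroup 7 (zpowers g))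
    (hgen : ∀ N : Subgroup H, N.Normal → g ∈ N → N = ⊤) : R ≤ center H := by
  by_contra hn
  haveI : Fact (Nat.Prime 3) := ⟨by norm_num⟩
  haveI : Fact (Nat.Prime 7) := ⟨by norm_num⟩
  obtain ⟨Y, hY, hYn, hc, hl⟩ := AltL.aStruct 3 R inferInstance hR hn
  have hcz : ∀ w ∈ center H, ∀ x, Commute w x := fun w hw x => (mem_center_iff.1 hw x).symm
  have hcube : ∀ x ∈ Y, ∀ y ∈ Y, (x * y) ^ 3 = x ^ 3 * y ^ 3 := by
    intro x hx y hy
    set c := y * x * y⁻¹ * x⁻¹ with hcdef
    have hcc := hcz c (hc y hy x hx)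
    have e : y * x = c * (x * y) := by rw [hcdef]; group
    have e2 : y * x * y⁻¹ = c * x := by rw [hcdef]; group
    have hc3 : c ^ 3 = 1 := by
      have h1 : (y * x * y⁻¹) ^ 3 = x ^ 3 := by
        rw [conj_pow, ← (hcz _ (hl x hx) y).eq, mul_inv_cancel_right]
      rw [e2, (hcc x).mul_pow] at h1
      exact mul_eq_right.1 h1
    have m : ∀ u v : H, u * (c * v) = c * (u * v) := fun u v => by
      rw [← mul_assoc, ← (hcc u).eq, mul_assoc]
    have e' : ∀ v : H, y * (x * v) = c * (x * (y * v)) := fun v => by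
      rw [← mul_assoc, e]; simp only [mul_assoc]
    calc (x * y) ^ 3 = x * (y * (x * (y * (x * y)))) := by simp only [pow_succ, pow_zero, one_mul, mul_assoc]
      _ = c * (c * (c * (x * (x * (x * (y * (y * y))))))) := by
        rw [e' y, m x, m y, e' (x * (y * y)), e' (y * y)]
        simp only [m x]
      _ = c ^ 3 * (x ^ 3 * y ^ 3) := by simp only [pow_succ, pow_zero, one_mul, mul_assoc]
      _ = _ := by rw [hc3, one_mul]
  let O : Subgroup H :=
    { carrier := {x | x ∈ Y ∧ x ^ 3 = 1}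
      one_mem' := ⟨Y.one_mem, by simp⟩
      mul_mem' := fun {x y} hx hy => ⟨Y.mul_mem hx.1 hy.1, by
        rw [hcube x hx.1 y hy.1, hx.2, hy.2, one_mul]⟩
      inv_mem' := fun {x} hx => ⟨Y.inv_mem hx.1, by rw [inv_pow, hx.2, inv_one]⟩ }
  haveI hO : O.Normal := ⟨fun x hx g => ⟨hY.conj_mem x hx.1 g, by rw [conj_pow, hx.2]; simp⟩⟩
  have hOn : ¬ O ≤ center H := by
    intro h
    apply hYn
    apply AltL.aAct hp Y
    intro u x hx
    apply h
    refine ⟨Y.mul_mem (hY.conj_mem x hx u) (Y.inv_mem hx), ?_⟩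
    rw [hcube _ (hY.conj_mem x hx u) _ (Y.inv_mem hx), conj_pow, ← (hcz _ (hl x hx) u).eq,
      mul_inv_cancel_right, inv_pow, mul_inv_cancel]
  have hcard := c_card hno O (fun x hx => hx.2) (fun x hx y hy => hc x hx.1 y hy.1)
  have hO3 : IsPGroup 3 O := fun x => ⟨1, Subtype.ext (by simpa using x.2.2)⟩
  letI : MulAction (zpowers g) O :=
    MulAction.compHom O ((MulAut.conjNormal (H := O)).comp (zpowers g).subtype)
  have hmod := hg.card_modEq_card_fixedPoints O
  let F : Subgroup O := (centralizer ({g} : Set H)).subgroupOf O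
  have hF : Nat.card (MulAction.fixedPoints (zpowers g) O) = Nat.card F := by
    refine Nat.card_congr (Equiv.subtypeEquivRight fun x => ?_)
    rw [MulAction.mem_fixedPoints, mem_subgroupOf, mem_centralizer_singleton_iff]
    constructor
    · intro h
      have := congrArg Subtype.val (h ⟨g, mem_zpowers g⟩)
      change g * x * g⁻¹ = x at this
      exact (mul_inv_eq_iff_eq_mul.1 this).symm
    · rintro h ⟨_, i, rfl⟩
      apply Subtype.ext
      change g ^ i * x * (g ^ i)⁻¹ = x
      rw [← ((show Commute (x : H) g from h).zpow_right i).eq, mul_inv_cancel_right]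
  rw [hF] at hmod
  obtain ⟨a, ha⟩ := IsPGroup.iff_card.1 hO3
  obtain ⟨b, hb⟩ := IsPGroup.iff_card.1 (hO3.to_subgroup F)
  have hle : Nat.card F ≤ Nat.card O := F.card_le_card_group
  have ha3 : a ≤ 3 := by
    by_contra h
    have : 3 ^ 4 ≤ 3 ^ a := Nat.pow_le_pow_right (by norm_num) (by omega)
    omega
  have hb3 : b ≤ 3 := by
    by_contra h
    have : 3 ^ 4 ≤ 3 ^ b := Nat.pow_le_pow_right (by norm_num) (by omega)
    omega
  have hFt : F = ⊤ := by
    apply eq_top_of_card_eq
    rw [ha, hb] at hmod ⊢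
    unfold Nat.ModEq at hmod
    interval_cases a <;> interval_cases b <;> simp_all
  have hC := hgen (centralizer (O : Set H)) inferInstance (by
    intro x hx
    have : (⟨x, hx⟩ : O) ∈ F := hFt ▸ mem_top _
    exact mem_centralizer_singleton_iff.1 (mem_subgroupOf.1 this))
  apply hOn
  intro x hx
  rw [mem_center_iff]
  intro u
  have : u ∈ centralizer (O : Set H) := hC ▸ mem_top u
  exact (this x hx).symm

end Cfsg.Agent.G2A
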