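import Mathlib

/-!
Fixed spaces of elementary abelian `3`-groups on an `8`-dimensional space.
-/

set_option autoImplicit false

namespace Cfsg.Agent.G2A

open Module Subgroup

section
variable {k V G : Type*} [Field k] [AddCommGroup V] [Module k V] [Group G] (ρ : G →* Module.End k V)

/-- the fixed space -/
def fxs (s : G) : Submodule k V := LinearMap.ker (ρ s - 1)

theorem mem_fxs {s : G} {v : V} : v ∈ fxs ρ s ↔ ρ s v = v := by
  simp [fxs, sub_eq_zero]

theorem l_mul (s t : G) (v : V) : ρ (s * t) v = ρ s (ρ t v) := by rw [map_mul]; rfl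

/-- the norm map -/
def nrm (c : G) (v : V) : V := v + ρ c v + ρ (c * c) v

theorem nrm_fix {c : G} (hc : c ^ 3 = 1) (v : V) : ρ c (nrm ρ c v) = nrm ρ c v := by
  have : c * (c * c) = 1 := by rw [← hc, pow_succ', pow_two]
  simp only [nrm, map_add, ← l_mul, this, map_one, Module.End.one_apply]
  abel

theorem nrm_fix' {c s : G} (h : Commute s c) {v : V} (hv : ρ s v = v) :
    ρ s (nrm ρ c v) = nrm ρ c v := by
  simp only [nrm, map_add, ← l_mul]
  rw [h.eq, (h.mul_right h).eq, l_mul ρ c s, l_mul ρ (c * c) s, hv]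

theorem nrm_self {c : G} {v : V} (hv : ρ c v = v) : nrm ρ c v = (3 : k) • v := by
  simp only [nrm, l_mul, hv]
  module

theorem nrm_add (c : G) (v w : V) : nrm ρ c (v + w) = nrm ρ c v + nrm ρ c w := by
  simp only [nrm, map_add]; abel

theorem fix_of {s t : G} {v : V} (h1 : ρ (s * t) v = v) (h2 : ρ t v = v) : ρ s v = v := by
  rwa [l_mul, h2] at h1

theorem dim_four [FiniteDimensional k V] (h3 : (3 : k) ≠ 0) {a b : G} (ha : a ^ 3 = 1)
    (hb : b ^ 3 = 1) (hab : Commute a b) :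
    finrank k (fxs ρ a) + finrank k (fxs ρ b) + finrank k (fxs ρ (a * b)) +
      finrank k (fxs ρ (a * b * b)) = finrank k V + 3 * finrank k (fxs ρ a ⊓ fxs ρ b :) := by
  have hc : (a * b) ^ 3 = 1 := by rw [hab.mul_pow, ha, hb, one_mul]
  have cab : Commute (a * b) b := hab.mul_left (Commute.refl b)
  have hd : (a * b * b) ^ 3 = 1 := by rw [cab.mul_pow, hc, hb, one_mul]
  have b3 : b * (b * b) = 1 := by rw [← hb, pow_succ', pow_two]
  have a3 : a * (a * a) = 1 := by rw [← ha, pow_succ', pow_two]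
  have ca : Commute a (a * b) := (Commute.refl a).mul_right hab
  have div : ∀ (W : Submodule k V) (v : V), (3 : k) • v ∈ W → v ∈ W := fun W v h =>
    (W.smul_mem_iff h3).1 h
  have e1 : (fxs ρ a ⊔ fxs ρ b) ⊓ fxs ρ (a * b) = fxs ρ a ⊓ fxs ρ b := by
    refine le_antisymm ?_ (le_inf (inf_le_left.trans le_sup_left) fun v hv => ?_)
    · rintro v ⟨h1, h2⟩
      obtain ⟨x, hx, y, hy, rfl⟩ := Submodule.mem_sup.1 h1
      refine div _ _ ?_
      rw [← nrm_self ρ ((mem_fxs ρ).1 h2), nrm_add]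
      have x1 := nrm_fix' ρ ca ((mem_fxs ρ).1 hx)
      have y1 := nrm_fix' ρ cab.symm ((mem_fxs ρ).1 hy)
      have x2 := nrm_fix ρ hc x
      have y2 := nrm_fix ρ hc y
      refine Submodule.add_mem _ ⟨(mem_fxs ρ).2 x1, (mem_fxs ρ).2 ?_⟩
        ⟨(mem_fxs ρ).2 (fix_of ρ y2 y1), (mem_fxs ρ).2 y1⟩
      refine fix_of ρ (t := a) ?_ x1
      rwa [← hab.eq]
    · rw [mem_fxs, l_mul, (mem_fxs ρ).1 hv.2, (mem_fxs ρ).1 hv.1]
  have e2 : (fxs ρ a ⊔ fxs ρ b ⊔ fxs ρ (a * b)) ⊓ fxs ρ (a * b * b) = fxs ρ a ⊓ fxs ρ b := by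
    refine le_antisymm ?_ (le_inf (inf_le_left.trans (le_sup_left.trans le_sup_left)) fun v hv => ?_)
    · rintro v ⟨h1, h2⟩
      obtain ⟨u, hu, w, hw, rfl⟩ := Submodule.mem_sup.1 h1
      obtain ⟨x, hx, y, hy, rfl⟩ := Submodule.mem_sup.1 hu
      refine div _ _ ?_
      rw [← nrm_self ρ ((mem_fxs ρ).1 h2), nrm_add, nrm_add]
      have x1 := nrm_fix' ρ (ca.mul_right hab) ((mem_fxs ρ).1 hx)
      have y1 := nrm_fix' ρ (cab.symm.mul_right (Commute.refl b)) ((mem_fxs ρ).1 hy)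
      have w1 := nrm_fix' ρ ((Commute.refl _).mul_right cab) ((mem_fxs ρ).1 hw)
      have x2 := nrm_fix ρ hd x
      have y2 := nrm_fix ρ hd y
      have w2 := nrm_fix ρ hd w
      have w3 : ρ b (nrm ρ (a * b * b) w) = nrm ρ (a * b * b) w := by
        refine fix_of ρ (t := a * b) ?_ w1
        rwa [← cab.eq]
      refine Submodule.add_mem _ (Submodule.add_mem _ ⟨(mem_fxs ρ).2 x1, (mem_fxs ρ).2 ?_⟩
        ⟨(mem_fxs ρ).2 (fix_of ρ (fix_of ρ y2 y1) y1), (mem_fxs ρ).2 y1⟩)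
        ⟨(mem_fxs ρ).2 (fix_of ρ w1 w3), (mem_fxs ρ).2 w3⟩
      have x3 : ρ (b * b) (nrm ρ (a * b * b) x) = nrm ρ (a * b * b) x := by
        refine fix_of ρ (t := a) ?_ x1
        rwa [← (hab.mul_right hab).eq, ← mul_assoc]
      refine fix_of ρ (t := b * b) ?_ x3
      rw [b3, map_one]; rfl
    · rw [mem_fxs, l_mul, l_mul, (mem_fxs ρ).1 hv.2, (mem_fxs ρ).1 hv.2, (mem_fxs ρ).1 hv.1]
  have e3 : fxs ρ a ⊔ fxs ρ b ⊔ fxs ρ (a * b) ⊔ fxs ρ (a * b * b) = ⊤ := by
    rw [eq_top_iff]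
    intro v _
    refine div _ _ ?_
    have k1 : a * b * (a * b) = a * a * (b * b) := by
      rw [mul_assoc, ← mul_assoc b a b, ← hab.eq]; group
    have k2 : a * b * b * (a * b * b) = a * a * b := by
      rw [mul_assoc a b b, mul_assoc a, ← mul_assoc (b * b) a, ← (hab.mul_right hab).eq]
      calc a * (a * (b * b) * (b * b)) = a * a * (b * (b * b)) * b := by group
        _ = a * a * b := by rw [b3, mul_one]
    have key : (3 : k) • v = (nrm ρ a v - nrm ρ a (nrm ρ b v)) + nrm ρ b v + nrm ρ (a * b) v +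
        nrm ρ (a * b * b) v := by
      simp only [nrm, map_add, ← l_mul, k1, k2]
      rw [← mul_assoc a b b]
      module
    rw [key]
    refine Submodule.add_mem _ (Submodule.mem_sup_left (Submodule.add_mem _
      (Submodule.mem_sup_left (Submodule.add_mem _ (Submodule.mem_sup_left ?_)
        (Submodule.mem_sup_right ((mem_fxs ρ).2 (nrm_fix ρ hb v)))))
      (Submodule.mem_sup_right ((mem_fxs ρ).2 (nrm_fix ρ hc v)))))
      (Submodule.mem_sup_right ((mem_fxs ρ).2 (nrm_fix ρ hd v)))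
    exact Submodule.sub_mem _ ((mem_fxs ρ).2 (nrm_fix ρ ha _)) ((mem_fxs ρ).2 (nrm_fix ρ ha _))
  have f1 := Submodule.finrank_sup_add_finrank_inf_eq (fxs ρ a) (fxs ρ b)
  have f2 := Submodule.finrank_sup_add_finrank_inf_eq (fxs ρ a ⊔ fxs ρ b) (fxs ρ (a * b))
  have f3 := Submodule.finrank_sup_add_finrank_inf_eq (fxs ρ a ⊔ fxs ρ b ⊔ fxs ρ (a * b))
    (fxs ρ (a * b * b))
  rw [e1] at f2
  rw [e2, e3, finrank_top] at f3
  omega

end

end Cfsg.Agent.G2A
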